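import Mathlib

universe u

open CategoryTheory AlgebraicGeometry TopologicalSpace

namespace Groth.Agent.LocStdLib

lemma appLE_ι_comp {X S : Scheme.{u}} (f : X ⟶ S) (W : X.Opens) (V : S.Opens)
    (U' : (W : Scheme.{u}).Opens) (e : U' ≤ (W.ι ≫ f) ⁻¹ᵁ V) (e' : W.ι ''ᵁ U' ≤ f ⁻¹ᵁ V) :
    (W.ι ≫ f).appLE V U' e = f.appLE V (W.ι ''ᵁ U') e' := by
  rw [Scheme.Hom.comp_appLE]
  erw [Scheme.Opens.ι_appLE]
  rfl

/-- An affine neighbourhood of `x` on which the appLE map has a given property. -/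
lemma exists_nhd_appLE {P : MorphismProperty Scheme.{u}}
    {Q : ∀ {R S : Type u} [CommRing R] [CommRing S], (R →+* S) → Prop} [HasRingHomProperty P Q]
    {X S : Scheme.{u}} (f : X ⟶ S) (x : X) {V : S.Opens} (hV : IsAffineOpen V) (hxV : f x ∈ V)
    (W : X.Opens) (hxW : x ∈ W) (hW : P (W.ι ≫ f)) :
    ∃ (U : X.Opens) (_ : IsAffineOpen U) (_ : x ∈ U) (e : U ≤ f ⁻¹ᵁ V),
      Q (f.appLE V U e).hom := by
  obtain ⟨U', hU', hxU', hU'V⟩ := exists_isAffineOpen_mem_and_subset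
    (U := (W.ι ≫ f) ⁻¹ᵁ V) (x := (⟨x, hxW⟩ : (W : Scheme.{u}))) hxV
  have e' : W.ι ''ᵁ U' ≤ f ⁻¹ᵁ V := by
    rintro _ ⟨z, hz, rfl⟩
    exact hU'V hz
  refine ⟨W.ι ''ᵁ U', hU'.image_of_isOpenImmersion W.ι, ⟨⟨x, hxW⟩, hxU', rfl⟩, e', ?_⟩
  rw [← appLE_ι_comp f W V U' hU'V e']
  exact HasRingHomProperty.appLE P _ hW ⟨V, hV⟩ ⟨U', hU'⟩ hU'V

/-- If the appLE map at an affine `U` has the property, then so does `U.ι ≫ f`. -/
lemma prop_ι_comp_of_appLE {P : MorphismProperty Scheme.{u}}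
    {Q : ∀ {R S : Type u} [CommRing R] [CommRing S], (R →+* S) → Prop} [HasRingHomProperty P Q]
    (hQ : RingHom.StableUnderCompositionWithLocalizationAwaySource Q)
    {X S : Scheme.{u}} (f : X ⟶ S) {V : S.Opens} (hV : IsAffineOpen V)
    {U : X.Opens} (hU : IsAffineOpen U) (e : U ≤ f ⁻¹ᵁ V) (h : Q (f.appLE V U e).hom) :
    P (U.ι ≫ f) := by
  haveI : IsAffine U := hU
  rw [HasRingHomProperty.iff_exists_appLE (P := P) hQ]
  intro y
  have e1 : (⊤ : (U : Scheme.{u}).Opens) ≤ (U.ι ≫ f) ⁻¹ᵁ V := fun z _ => e z.2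
  refine ⟨⟨V, hV⟩, ⟨⊤, isAffineOpen_top _⟩, trivial, e1, ?_⟩
  have e2 : U.ι ''ᵁ ⊤ ≤ f ⁻¹ᵁ V := by rw [Scheme.Opens.ι_image_top]; exact e
  rw [appLE_ι_comp f U V ⊤ e1 e2]
  exact (Scheme.Hom.appLE_congr f e2 rfl (Scheme.Opens.ι_image_top U) (fun φ => Q φ.hom)).2 h

theorem smooth_nhd_iff {X S : Scheme.{u}} (f : X ⟶ S) (x : X)
    (V : S.Opens) (hV : IsAffineOpen V) (hxV : f x ∈ V) :
    (∃ W : X.Opens, x ∈ W ∧ Smooth (W.ι ≫ f)) ↔
      ∃ (U : X.Opens) (_ : IsAffineOpen U) (_ : x ∈ U) (e : U ≤ f ⁻¹ᵁ V),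
        (f.appLE V U e).hom.IsStandardSmooth := by
  constructor
  · rintro ⟨W, hxW, hW⟩
    obtain ⟨U, hU, hxU, e, h⟩ := exists_nhd_appLE (P := @Smooth) f x hV hxV W hxW hW
    obtain ⟨s, hs, hloc⟩ := RingHom.smooth_iff_locally_isStandardSmooth.1 h
    obtain ⟨t, hts, htx⟩ : ∃ t ∈ s, x ∈ X.basicOpen t := by
      have hcov := hU.iSup_basicOpen_eq_self_iff.2 hs
      have hx' : x ∈ ⨆ t : (s : Set _), X.basicOpen (t : Γ(X, U)) := by
        rw [hcov]; exact hxU
      obtain ⟨t, ht⟩ := Opens.mem_iSup.1 hx'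
      exact ⟨t.1, t.2, ht⟩
    refine ⟨X.basicOpen t, hU.basicOpen t, htx, (X.basicOpen_le t).trans e, ?_⟩
    haveI := hU.isLocalization_basicOpen t
    have hstd := hloc t hts
    let φ : Localization.Away t ≃+* Γ(X, X.basicOpen t) :=
      (IsLocalization.algEquiv (Submonoid.powers t) (Localization.Away t)
        Γ(X, X.basicOpen t)).toRingEquiv
    have h2 := RingHom.isStandardSmooth_respectsIso.1 _ φ hstd
    have h3 : (f.appLE V (X.basicOpen t) ((X.basicOpen_le t).trans e)).hom =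
        φ.toRingHom.comp ((algebraMap Γ(X, U) (Localization.Away t)).comp (f.appLE V U e).hom) := by
      rw [← RingHom.comp_assoc]
      have : φ.toRingHom.comp (algebraMap Γ(X, U) (Localization.Away t)) =
          algebraMap Γ(X, U) Γ(X, X.basicOpen t) :=
        (IsLocalization.algEquiv (Submonoid.powers t) (Localization.Away t)
          Γ(X, X.basicOpen t)).toAlgHom.comp_algebraMap
      rw [this, ← Scheme.Hom.appLE_map f e (homOfLE (X.basicOpen_le t)).op]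
      rfl
    rw [h3]
    exact h2
  · rintro ⟨U, hU, hxU, e, h⟩
    refine ⟨U, hxU, prop_ι_comp_of_appLE (P := @Smooth) ?_ f hV hU e h.smooth⟩
    exact (RingHom.Smooth.stableUnderComposition.stableUnderCompositionWithLocalizationAway
      RingHom.Smooth.holdsForLocalizationAway).1

theorem etale_nhd_iff {X S : Scheme.{u}} (f : X ⟶ S) (x : X)
    (V : S.Opens) (hV : IsAffineOpen V) (hxV : f x ∈ V) :
    (∃ W : X.Opens, x ∈ W ∧ Etale (W.ι ≫ f)) ↔
      ∃ (U : X.Opens) (_ : IsAffineOpen U) (_ : x ∈ U) (e : U ≤ f ⁻¹ᵁ V),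
        letI := (f.appLE V U e).hom.toAlgebra
        Algebra.IsStandardEtale Γ(S, V) Γ(X, U) := by
  constructor
  · rintro ⟨W, hxW, hW⟩
    obtain ⟨U, hU, hxU, e, h⟩ := exists_nhd_appLE (P := @Etale) f x hV hxV W hxW hW
    letI := (f.appLE V U e).hom.toAlgebra
    haveI : Algebra.Etale Γ(S, V) Γ(X, U) := h
    set Q := (hU.primeIdealOf ⟨x, hxU⟩).asIdeal with hQ
    haveI : Algebra.IsEtaleAt Γ(S, V) Q := by
      have hmem : hU.primeIdealOf ⟨x, hxU⟩ ∈ Algebra.etaleLocus Γ(S, V) Γ(X, U) := by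
        rw [Algebra.etaleLocus_eq_univ_iff_etale.2 inferInstance]
        trivial
      exact hmem
    obtain ⟨t, ht, hstd⟩ := Algebra.IsEtaleAt.exists_isStandardEtale (R := Γ(S, V)) Q
    have htx : x ∈ X.basicOpen t := by
      rw [Scheme.mem_basicOpen X t x hxU]
      letI := X.presheaf.algebra_section_stalk (⟨x, hxU⟩ : U)
      haveI := hU.isLocalization_stalk ⟨x, hxU⟩
      exact (IsLocalization.AtPrime.isUnit_to_map_iff (X.presheaf.stalk x) Q t).2 ht
    refine ⟨X.basicOpen t, hU.basicOpen t, htx, (X.basicOpen_le t).trans e, ?_⟩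
    haveI := hU.isLocalization_basicOpen t
    letI := (f.appLE V (X.basicOpen t) ((X.basicOpen_le t).trans e)).hom.toAlgebra
    haveI : IsScalarTower Γ(S, V) Γ(X, U) Γ(X, X.basicOpen t) := IsScalarTower.of_algebraMap_eq' (by
      rw [RingHom.algebraMap_toAlgebra, RingHom.algebraMap_toAlgebra,
        ← Scheme.Hom.appLE_map f e (homOfLE (X.basicOpen_le t)).op]
      rfl)
    exact Algebra.IsStandardEtale.of_equiv
      ((IsLocalization.algEquiv (Submonoid.powers t) (Localization.Away t)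
        Γ(X, X.basicOpen t)).restrictScalars Γ(S, V))
  · rintro ⟨U, hU, hxU, e, h⟩
    letI := (f.appLE V U e).hom.toAlgebra
    haveI : Algebra.IsStandardEtale Γ(S, V) Γ(X, U) := h
    have h' : Algebra.Etale Γ(S, V) Γ(X, U) := inferInstance
    refine ⟨U, hxU, prop_ι_comp_of_appLE (P := @Etale) ?_ f hV hU e h'⟩
    exact (RingHom.Etale.stableUnderComposition.stableUnderCompositionWithLocalizationAway
      (fun {R} S _ _ _ r _ => by
        show (algebraMap R S).Etale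
        rw [RingHom.etale_algebraMap]
        exact Algebra.Etale.of_isLocalizationAway r)).1

end Groth.Agent.LocStdLib
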